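import Mathlib

set_option autoImplicit false
set_option linter.unusedSimpArgs false

/-!
Quaternion coordinates in an arbitrary ring: if `i, j, k` is a quaternion triple in a ring `R`
then every element has coordinates with respect to `1, i, j, k` with coefficients in the
centraliser of the triple.  Consequences: rigidity of an element of order three permuting
the triple cyclically, and the coordinates of a second triple permuted by the same element.
-/

namespace Cfsg.Agent.Lib.Helper12.Zas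

variable {R : Type*} [Ring R]

/-- A quaternion triple in a ring. -/
structure QT (i j k : R) : Prop where
  ii : i * i = -1
  jj : j * j = -1
  kk : k * k = -1
  ij : i * j = k
  ji : j * i = -k
  jk : j * k = i
  kj : k * j = -i
  ki : k * i = j
  ik : i * k = -j

namespace QT

variable {i j k : R}

theorem ii' (h : QT i j k) (t : R) : i * (i * t) = -t := by rw [← mul_assoc, h.ii, neg_one_mul]
theorem jj' (h : QT i j k) (t : R) : j * (j * t) = -t := by rw [← mul_assoc, h.jj, neg_one_mul]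
theorem kk' (h : QT i j k) (t : R) : k * (k * t) = -t := by rw [← mul_assoc, h.kk, neg_one_mul]
theorem ij' (h : QT i j k) (t : R) : i * (j * t) = k * t := by rw [← mul_assoc, h.ij]
theorem ji' (h : QT i j k) (t : R) : j * (i * t) = -(k * t) := by rw [← mul_assoc, h.ji, neg_mul]
theorem jk' (h : QT i j k) (t : R) : j * (k * t) = i * t := by rw [← mul_assoc, h.jk]
theorem kj' (h : QT i j k) (t : R) : k * (j * t) = -(i * t) := by rw [← mul_assoc, h.kj, neg_mul]
theorem ki' (h : QT i j k) (t : R) : k * (i * t) = j * t := by rw [← mul_assoc, h.ki]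
theorem ik' (h : QT i j k) (t : R) : i * (k * t) = -(j * t) := by rw [← mul_assoc, h.ik, neg_mul]

/-- a quaternion triple from two anticommuting square roots of `-1` -/
theorem of_anticomm {i j : R} (hi : i * i = -1) (hj : j * j = -1) (hij : j * i = -(i * j)) :
    QT i j (i * j) := by
  have hji' : ∀ t : R, j * (i * t) = -(i * (j * t)) := by
    intro t; rw [← mul_assoc, hij, neg_mul, mul_assoc]
  have hii' : ∀ t : R, i * (i * t) = -t := by intro t; rw [← mul_assoc, hi, neg_one_mul]
  have hjj' : ∀ t : R, j * (j * t) = -t := by intro t; rw [← mul_assoc, hj, neg_one_mul]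
  refine ⟨hi, hj, ?_, rfl, hij, ?_, ?_, ?_, ?_⟩
  · simp only [mul_assoc, hji', hii', hjj', hi, hj, mul_neg, neg_neg, hij]
  · simp only [hji', hj, mul_neg, mul_one, neg_neg]
  · simp only [mul_assoc, hj, mul_neg, mul_one]
  · simp only [mul_assoc, hij, mul_neg, hii', neg_neg]
  · simp only [hii']

end QT

/-- four times the average of `T` over conjugation by the quaternion group -/
def av4 (i j k T : R) : R := T - i * T * i - j * T * j - k * T * k

section
variable {i j k : R}

theorem av4_comm_i (h : QT i j k) (T : R) : i * av4 i j k T = av4 i j k T * i := by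
  unfold av4
  simp only [mul_assoc, mul_sub, sub_mul, h.ii, h.jj, h.kk, h.ij, h.ji, h.jk, h.kj, h.ki, h.ik,
    h.ii', h.jj', h.kk', h.ij', h.ji', h.jk', h.kj', h.ki', h.ik', mul_neg, neg_mul, neg_neg,
    mul_one, one_mul]
  abel

theorem av4_comm_j (h : QT i j k) (T : R) : j * av4 i j k T = av4 i j k T * j := by
  unfold av4
  simp only [mul_assoc, mul_sub, sub_mul, h.ii, h.jj, h.kk, h.ij, h.ji, h.jk, h.kj, h.ki, h.ik,
    h.ii', h.jj', h.kk', h.ij', h.ji', h.jk', h.kj', h.ki', h.ik', mul_neg, neg_mul, neg_neg,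
    mul_one, one_mul]
  abel

theorem av4_comm_k (h : QT i j k) (T : R) : k * av4 i j k T = av4 i j k T * k := by
  unfold av4
  simp only [mul_assoc, mul_sub, sub_mul, h.ii, h.jj, h.kk, h.ij, h.ji, h.jk, h.kj, h.ki, h.ik,
    h.ii', h.jj', h.kk', h.ij', h.ji', h.jk', h.kj', h.ki', h.ik', mul_neg, neg_mul, neg_neg,
    mul_one, one_mul]
  abel

/-- the coordinate decomposition -/
theorem av4_decomp (h : QT i j k) (T : R) :
    4 * T = av4 i j k T - i * av4 i j k (i * T) - j * av4 i j k (j * T)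
      - k * av4 i j k (k * T) := by
  unfold av4
  simp only [mul_assoc, mul_sub, sub_mul, h.ii, h.jj, h.kk, h.ij, h.ji, h.jk, h.kj, h.ki, h.ik,
    h.ii', h.jj', h.kk', h.ij', h.ji', h.jk', h.kj', h.ki', h.ik', mul_neg, neg_mul, neg_neg,
    mul_one, one_mul]
  have : (4 : R) * T = T + T + T + T := by
    have : (4 : R) = 1 + 1 + 1 + 1 := by norm_num
    rw [this]; simp only [add_mul, one_mul]
  rw [this]
  abel


/-- `c` commutes with the quaternion triple -/
structure Cm (i j k c : R) : Prop where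
  ci : c * i = i * c
  cj : c * j = j * c
  ck : c * k = k * c

namespace Cm
variable {c : R}
theorem ci' (hc : Cm i j k c) (t : R) : c * (i * t) = i * (c * t) := by
  rw [← mul_assoc, hc.ci, mul_assoc]
theorem cj' (hc : Cm i j k c) (t : R) : c * (j * t) = j * (c * t) := by
  rw [← mul_assoc, hc.cj, mul_assoc]
theorem ck' (hc : Cm i j k c) (t : R) : c * (k * t) = k * (c * t) := by
  rw [← mul_assoc, hc.ck, mul_assoc]
theorem mul {d : R} (hc : Cm i j k c) (hd : Cm i j k d) : Cm i j k (c * d) :=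
  ⟨by rw [mul_assoc, hd.ci, hc.ci' ], by rw [mul_assoc, hd.cj, hc.cj'], by rw [mul_assoc, hd.ck, hc.ck']⟩
theorem add {d : R} (hc : Cm i j k c) (hd : Cm i j k d) : Cm i j k (c + d) :=
  ⟨by rw [add_mul, mul_add, hc.ci, hd.ci], by rw [add_mul, mul_add, hc.cj, hd.cj],
   by rw [add_mul, mul_add, hc.ck, hd.ck]⟩
theorem neg (hc : Cm i j k c) : Cm i j k (-c) :=
  ⟨by rw [neg_mul, mul_neg, hc.ci], by rw [neg_mul, mul_neg, hc.cj], by rw [neg_mul, mul_neg, hc.ck]⟩
theorem sub {d : R} (hc : Cm i j k c) (hd : Cm i j k d) : Cm i j k (c - d) := by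
  rw [sub_eq_add_neg]; exact hc.add hd.neg
theorem one : Cm i j k (1 : R) := ⟨by simp, by simp, by simp⟩
theorem zero : Cm i j k (0 : R) := ⟨by simp, by simp, by simp⟩
theorem natCast (n : ℕ) : Cm i j k (n : R) :=
  ⟨(Nat.cast_commute n i).eq, (Nat.cast_commute n j).eq, (Nat.cast_commute n k).eq⟩
theorem ofNat (n : ℕ) [n.AtLeastTwo] : Cm i j k (OfNat.ofNat n : R) := by
  have := natCast (R := R) (i := i) (j := j) (k := k) (OfNat.ofNat n)
  rwa [Nat.cast_ofNat] at this
end Cm

theorem av4_cm (h : QT i j k) (T : R) : Cm i j k (av4 i j k T) :=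
  ⟨(av4_comm_i h T).symm, (av4_comm_j h T).symm, (av4_comm_k h T).symm⟩

theorem four_mul' (x : R) : (4 : R) * x = x + x + x + x := by
  have : (4 : R) = 1 + 1 + 1 + 1 := by norm_num
  rw [this]; simp only [add_mul, one_mul]

/-- `av4` of a combination with commuting coefficients picks out the scalar coefficient -/
theorem av4_coord (h : QT i j k) {x0 x1 x2 x3 : R} (h0 : Cm i j k x0) (h1 : Cm i j k x1)
    (h2 : Cm i j k x2) (h3 : Cm i j k x3) :
    av4 i j k (x0 + i * x1 + j * x2 + k * x3) = 4 * x0 := by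
  unfold av4
  simp only [mul_assoc, mul_sub, sub_mul, mul_add, add_mul, h.ii, h.jj, h.kk, h.ij, h.ji, h.jk,
    h.kj, h.ki, h.ik,
    h.ii', h.jj', h.kk', h.ij', h.ji', h.jk', h.kj', h.ki', h.ik', mul_neg, neg_mul, neg_neg,
    mul_one, one_mul, h0.ci, h0.cj, h0.ck, h1.ci, h1.cj, h1.ck, h2.ci, h2.cj, h2.ck,
    h3.ci, h3.cj, h3.ck]
  rw [four_mul']
  abel

/-- uniqueness of the coordinates (in a ring without 2-torsion) -/
theorem coord_zero (h : QT i j k) (t2 : ∀ x : R, 2 * x = 0 → x = 0)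
    {x0 x1 x2 x3 : R} (h0 : Cm i j k x0) (h1 : Cm i j k x1)
    (h2 : Cm i j k x2) (h3 : Cm i j k x3) (hx : x0 + i * x1 + j * x2 + k * x3 = 0) :
    x0 = 0 ∧ x1 = 0 ∧ x2 = 0 ∧ x3 = 0 := by
  have t4 : ∀ x : R, 4 * x = 0 → x = 0 := by
    intro x hx4
    apply t2; apply t2
    rw [← mul_assoc]; norm_num; exact hx4
  have e0 : x0 = 0 := by
    apply t4
    rw [← av4_coord h h0 h1 h2 h3, hx]; simp [av4]
  have e1 : x1 = 0 := by
    apply t4
    have hx' : -x1 + i * x0 + j * (-x3) + k * x2 = 0 := by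
      have := congrArg (fun t => i * t) hx
      simp only [mul_add, mul_zero, h.ii', h.ij', h.ik'] at this
      rw [← this]; simp only [mul_neg]; abel
    have := av4_coord h h1.neg h0 h3.neg h2
    rw [hx'] at this
    have h4 : (4 : R) * -x1 = 0 := by rw [← this]; simp [av4]
    rw [mul_neg, neg_eq_zero] at h4; exact h4
  have e2 : x2 = 0 := by
    apply t4
    have hx' : -x2 + i * x3 + j * x0 + k * (-x1) = 0 := by
      have := congrArg (fun t => j * t) hx
      simp only [mul_add, mul_zero, h.jj', h.ji', h.jk'] at this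
      rw [← this]; simp only [mul_neg]; abel
    have := av4_coord h h2.neg h3 h0 h1.neg
    rw [hx'] at this
    have h4 : (4 : R) * -x2 = 0 := by rw [← this]; simp [av4]
    rw [mul_neg, neg_eq_zero] at h4; exact h4
  have e3 : x3 = 0 := by
    apply t4
    have hx' : -x3 + i * (-x2) + j * x1 + k * x0 = 0 := by
      have := congrArg (fun t => k * t) hx
      simp only [mul_add, mul_zero, h.kk', h.ki', h.kj'] at this
      rw [← this]; simp only [mul_neg]; abel
    have := av4_coord h h3.neg h2.neg h1 h0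
    rw [hx'] at this
    have h4 : (4 : R) * -x3 = 0 := by rw [← this]; simp [av4]
    rw [mul_neg, neg_eq_zero] at h4; exact h4
  exact ⟨e0, e1, e2, e3⟩


/-- **Rigidity.**  An element `w` with `w ^ 2 + w + 1 = 0` that permutes a quaternion triple
cyclically by conjugation is `-(1 + i + j + k) / 2`. -/
theorem rig (h : QT i j k) (t2 : ∀ x : R, 2 * x = 0 → x = 0) {w : R}
    (hw : w * w + w + 1 = 0) (hwi : w * i = j * w) (hwj : w * j = k * w) :
    2 * w = -(1 + i + j + k) := by
  have hwk : w * k = i * w := by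
    rw [← h.ij, ← mul_assoc, hwi, mul_assoc, hwj, ← mul_assoc, h.jk]
  obtain ⟨a, ha⟩ : ∃ a : R, a = (1 - (i + j + k)) * w := ⟨_, rfl⟩
  have hai : Cm i j k a := by
    refine ⟨?_, ?_, ?_⟩
    · rw [ha, mul_assoc, hwi, ← mul_assoc, ← mul_assoc]
      congr 1
      simp only [mul_sub, sub_mul, mul_add, add_mul, mul_one, one_mul, h.ii, h.jj, h.kk, h.ij,
        h.ji, h.jk, h.kj, h.ki, h.ik]
      abel
    · rw [ha, mul_assoc, hwj, ← mul_assoc, ← mul_assoc]
      congr 1
      simp only [mul_sub, sub_mul, mul_add, add_mul, mul_one, one_mul, h.ii, h.jj, h.kk, h.ij,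
        h.ji, h.jk, h.kj, h.ki, h.ik]
      abel
    · rw [ha, mul_assoc, hwk, ← mul_assoc, ← mul_assoc]
      congr 1
      simp only [mul_sub, sub_mul, mul_add, add_mul, mul_one, one_mul, h.ii, h.jj, h.kk, h.ij,
        h.ji, h.jk, h.kj, h.ki, h.ik]
      abel
  have h4w : w + w + w + w = (1 + (i + j + k)) * a := by
    rw [ha, ← mul_assoc]
    have : (1 + (i + j + k)) * (1 - (i + j + k)) = 1 + 1 + 1 + 1 := by
      simp only [mul_sub, sub_mul, mul_add, add_mul, mul_one, one_mul, h.ii, h.jj, h.kk, h.ij,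
        h.ji, h.jk, h.kj, h.ki, h.ik]
      abel
    rw [this]; simp only [add_mul, one_mul]
  have hww : w * w = -w - 1 := by
    have : w * w = (w * w + w + 1) - w - 1 := by abel
    rw [this, hw]; abel
  -- the quadratic relation for `Q = 4 w`
  have hQ : (w + w + w + w) * (w + w + w + w) + ((w + w + w + w) + (w + w + w + w)
      + (w + w + w + w) + (w + w + w + w)) + (1 + 1 + 1 + 1) * (1 + 1 + 1 + 1) = (0 : R) := by
    simp only [mul_add, add_mul, hww, mul_one, one_mul]
    abel
  rw [h4w] at hQ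
  -- coordinates
  have hX : ((1 + 1 + 1 + 1) * (1 + 1 + 1 + 1) + (a + a + a + a) - (a * a + a * a))
      + i * ((a * a + a * a) + (a + a + a + a)) + j * ((a * a + a * a) + (a + a + a + a))
      + k * ((a * a + a * a) + (a + a + a + a)) = 0 := by
    rw [← hQ]
    simp only [mul_sub, sub_mul, mul_add, add_mul, mul_one, one_mul, mul_assoc, h.ii, h.jj, h.kk,
      h.ij, h.ji, h.jk, h.kj, h.ki, h.ik, h.ii', h.jj', h.kk', h.ij', h.ji', h.jk', h.kj', h.ki',
      h.ik', hai.ci, hai.cj, hai.ck, hai.ci', hai.cj', hai.ck', mul_neg, neg_mul, neg_neg]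
    abel
  have hY : Cm i j k ((a * a + a * a) + (a + a + a + a)) :=
    ((hai.mul hai).add (hai.mul hai)).add (((hai.add hai).add hai).add hai)
  have hXc : Cm i j k ((1 + 1 + 1 + 1) * (1 + 1 + 1 + 1) + (a + a + a + a) - (a * a + a * a)) :=
    (((((Cm.one.add Cm.one).add Cm.one).add Cm.one).mul
      (((Cm.one.add Cm.one).add Cm.one).add Cm.one)).add
      (((hai.add hai).add hai).add hai)).sub ((hai.mul hai).add (hai.mul hai))
  obtain ⟨e0, e1, -, -⟩ := coord_zero h t2 hXc hY hY hY hX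
  -- `X + Y = 8 a + 16 = 0`
  have h8 : 2 * (2 * (2 * (a + (1 + 1)))) = 0 := by
    have : 2 * (2 * (2 * (a + (1 + 1)))) = ((1 + 1 + 1 + 1) * (1 + 1 + 1 + 1) + (a + a + a + a)
        - (a * a + a * a)) + ((a * a + a * a) + (a + a + a + a)) := by
      simp only [two_mul]
      simp only [mul_add, add_mul, mul_one, one_mul]
      abel
    rw [this, e0, e1, add_zero]
  have ha2 : a + (1 + 1) = 0 := t2 _ (t2 _ (t2 _ h8))
  have ha' : a = -(1 + 1) := eq_neg_of_add_eq_zero_left ha2
  rw [ha'] at h4w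
  have hgoal : 2 * (2 * w + (1 + i + j + k)) = 0 := by
    have e : 2 * (2 * w + (1 + i + j + k))
        = (w + w + w + w) + (1 + (i + j + k)) * (1 + 1) := by
      simp only [two_mul]
      simp only [mul_add, mul_one]; abel
    rw [e, h4w]; simp only [mul_neg]; abel
  exact eq_neg_of_add_eq_zero_left (t2 _ hgoal)


theorem cube_eq_one {w : R} (hw : w * w + w + 1 = 0) : w * (w * w) = 1 := by
  have hww : w * w = -w - 1 := by
    have : w * w = (w * w + w + 1) - w - 1 := by abel
    rw [this, hw]; abel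
  rw [hww, mul_sub, mul_neg, mul_one, hww]; abel

/-- **Coordinates of a second triple.**  If `w` (`w ^ 2 + w + 1 = 0`) permutes two quaternion
triples cyclically, then the second triple has coordinates `c1, c2, c3` (times `1/4`) with
respect to the first one, the coordinates commute with the first triple and with each other,
their sum is `4` and the sum of their squares is `16`. -/
theorem coord {i' j' k' : R} (h : QT i j k) (h' : QT i' j' k')
    (t2 : ∀ x : R, 2 * x = 0 → x = 0) (t3 : ∀ x : R, 3 * x = 0 → x = 0) {w : R}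
    (hw : w * w + w + 1 = 0) (hwi : w * i = j * w) (hwj : w * j = k * w)
    (hwi' : w * i' = j' * w) (hwj' : w * j' = k' * w) :
    ∃ c1 c2 c3 : R, Cm i j k c1 ∧ Cm i j k c2 ∧ Cm i j k c3 ∧
      c1 * c2 = c2 * c1 ∧ c1 * c3 = c3 * c1 ∧ c2 * c3 = c3 * c2 ∧
      c1 + c2 + c3 = 4 ∧ c1 * c1 + c2 * c2 + c3 * c3 = 16 ∧
      4 * i' = i * c1 + j * c2 + k * c3 ∧ 4 * j' = j * c1 + k * c2 + i * c3 ∧
      4 * k' = k * c1 + i * c2 + j * c3 := by
  have hwk : w * k = i * w := by
    rw [← h.ij, ← mul_assoc, hwi, mul_assoc, hwj, ← mul_assoc, h.jk]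
  have r1 := rig h t2 hw hwi hwj
  have r2 := rig h' t2 hw hwi' hwj'
  have hs : i' + j' + k' = i + j + k := by
    have : -(1 + i' + j' + k') = -(1 + i + j + k) := by rw [← r1, ← r2]
    have := neg_injective this
    have e : ∀ a b c : R, a + b + c = (1 + a + b + c) - 1 := by intro a b c; abel
    rw [e i' j' k', e i j k, this]
  obtain ⟨C0, hC0⟩ : ∃ C0 : R, C0 = av4 i j k i' := ⟨_, rfl⟩
  obtain ⟨C1, hC1⟩ : ∃ C1 : R, C1 = -av4 i j k (i * i') := ⟨_, rfl⟩
  obtain ⟨C2, hC2⟩ : ∃ C2 : R, C2 = -av4 i j k (j * i') := ⟨_, rfl⟩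
  obtain ⟨C3, hC3⟩ : ∃ C3 : R, C3 = -av4 i j k (k * i') := ⟨_, rfl⟩
  have m0 : Cm i j k C0 := hC0 ▸ av4_cm h _
  have m1 : Cm i j k C1 := hC1 ▸ (av4_cm h _).neg
  have m2 : Cm i j k C2 := hC2 ▸ (av4_cm h _).neg
  have m3 : Cm i j k C3 := hC3 ▸ (av4_cm h _).neg
  have d1 : i' + i' + i' + i' = C0 + i * C1 + j * C2 + k * C3 := by
    rw [← four_mul', av4_decomp h i', hC0, hC1, hC2, hC3]
    simp only [mul_neg]; abel
  -- `w` commutes with the coordinates
  have wc : ∀ C : R, Cm i j k C → w * C = C * w := by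
    intro C hC
    have e1 : (2 * w) * C = C * (2 * w) := by
      rw [r1]
      simp only [neg_mul, mul_neg, add_mul, mul_add, one_mul, mul_one, hC.ci, hC.cj, hC.ck]
    have e2 : 2 * (w * C - C * w) = 0 := by
      have : 2 * (w * C - C * w) = (2 * w) * C - C * (2 * w) := by
        simp only [two_mul, mul_sub, add_mul, mul_add]
      rw [this, e1, sub_self]
    exact sub_eq_zero.mp (t2 _ e2)
  have w3 : w * (w * w) = 1 := cube_eq_one hw
  have cancel : ∀ a b : R, a * w = b * w → a = b := by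
    intro a b hab
    have := congrArg (fun t => t * (w * w)) hab
    simpa only [mul_assoc, w3, mul_one] using this
  have d2 : j' + j' + j' + j' = C0 + j * C1 + k * C2 + i * C3 := by
    apply cancel
    have e : (j' + j' + j' + j') * w = w * (i' + i' + i' + i') := by
      simp only [add_mul, mul_add, hwi']
    rw [e, d1]
    simp only [mul_add, add_mul, mul_assoc, ← wc C0 m0, ← wc C1 m1, ← wc C2 m2, ← wc C3 m3]
    simp only [← mul_assoc, hwi, hwj, hwk]
  have d3 : k' + k' + k' + k' = C0 + k * C1 + i * C2 + j * C3 := by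
    apply cancel
    have e : (k' + k' + k' + k') * w = w * (j' + j' + j' + j') := by
      simp only [add_mul, mul_add, hwj']
    rw [e, d2]
    simp only [mul_add, add_mul, mul_assoc, ← wc C0 m0, ← wc C1 m1, ← wc C2 m2, ← wc C3 m3]
    simp only [← mul_assoc, hwi, hwj, hwk]
  -- the sum
  have hsum : (C0 + C0 + C0) + i * (C1 + C2 + C3 - (1 + 1 + 1 + 1))
      + j * (C1 + C2 + C3 - (1 + 1 + 1 + 1)) + k * (C1 + C2 + C3 - (1 + 1 + 1 + 1)) = 0 := by
    have e : (i' + i' + i' + i') + (j' + j' + j' + j') + (k' + k' + k' + k')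
        = (i + j + k) + (i + j + k) + (i + j + k) + (i + j + k) := by
      rw [← hs]; abel
    rw [d1, d2, d3] at e
    have : (C0 + C0 + C0) + i * (C1 + C2 + C3 - (1 + 1 + 1 + 1))
      + j * (C1 + C2 + C3 - (1 + 1 + 1 + 1)) + k * (C1 + C2 + C3 - (1 + 1 + 1 + 1))
      = (C0 + i * C1 + j * C2 + k * C3 + (C0 + j * C1 + k * C2 + i * C3)
          + (C0 + k * C1 + i * C2 + j * C3))
        - ((i + j + k) + (i + j + k) + (i + j + k) + (i + j + k)) := by
      simp only [mul_sub, mul_add, mul_one]; abel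
    rw [this, e, sub_self]
  have m4 : Cm i j k (C1 + C2 + C3 - (1 + 1 + 1 + 1)) :=
    ((m1.add m2).add m3).sub (((Cm.one.add Cm.one).add Cm.one).add Cm.one)
  obtain ⟨z0, z1, -, -⟩ := coord_zero h t2 ((m0.add m0).add m0) m4 m4 m4 hsum
  have hC00 : C0 = 0 := by
    apply t3
    have : (3 : R) * C0 = C0 + C0 + C0 := by
      have : (3 : R) = 1 + 1 + 1 := by norm_num
      rw [this]; simp only [add_mul, one_mul]
    rw [this, z0]
  have hS : C1 + C2 + C3 = 1 + 1 + 1 + 1 := sub_eq_zero.mp z1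
  rw [hC00, zero_add] at d1 d2 d3
  -- squares
  have hsq : ((1 + 1 + 1 + 1) * (1 + 1 + 1 + 1) - (C1 * C1 + C2 * C2 + C3 * C3))
      + i * (C2 * C3 - C3 * C2) + j * (C3 * C1 - C1 * C3) + k * (C1 * C2 - C2 * C1) = 0 := by
    have e : (i' + i' + i' + i') * (i' + i' + i' + i') + (1 + 1 + 1 + 1) * (1 + 1 + 1 + 1)
        = (0 : R) := by
      simp only [mul_add, add_mul, h'.ii, mul_one, one_mul]; abel
    rw [d1] at e
    rw [← e]
    simp only [mul_sub, sub_mul, mul_add, add_mul, mul_one, one_mul, mul_assoc, h.ii, h.jj, h.kk,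
      h.ij, h.ji, h.jk, h.kj, h.ki, h.ik, h.ii', h.jj', h.kk', h.ij', h.ji', h.jk', h.kj', h.ki',
      h.ik', m1.ci, m1.cj, m1.ck, m1.ci', m1.cj', m1.ck', m2.ci, m2.cj, m2.ck, m2.ci', m2.cj',
      m2.ck', m3.ci, m3.cj, m3.ck, m3.ci', m3.cj', m3.ck', mul_neg, neg_mul, neg_neg]
    abel
  have one4 : Cm i j k ((1 + 1 + 1 + 1 : R)) := ((Cm.one.add Cm.one).add Cm.one).add Cm.one
  obtain ⟨q0, q1, q2, q3⟩ := coord_zero h t2
    ((one4.mul one4).sub (((m1.mul m1).add (m2.mul m2)).add (m3.mul m3)))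
    ((m2.mul m3).sub (m3.mul m2)) ((m3.mul m1).sub (m1.mul m3)) ((m1.mul m2).sub (m2.mul m1)) hsq
  have n4 : (1 + 1 + 1 + 1 : R) = 4 := by norm_num
  have n16 : ((1 + 1 + 1 + 1) * (1 + 1 + 1 + 1) : R) = 16 := by norm_num
  refine ⟨C1, C2, C3, m1, m2, m3, sub_eq_zero.mp q3, (sub_eq_zero.mp q2).symm, sub_eq_zero.mp q1,
    by rw [hS, n4], ?_, by rw [four_mul', d1], by rw [four_mul', d2], by rw [four_mul', d3]⟩
  rw [← n16]; exact (sub_eq_zero.mp q0).symm

end

end Cfsg.Agent.Lib.Helper12.Zas
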