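import Mathlib
import Cfsg.Agent.Lib.Helper12.Zas.QCoord

set_option autoImplicit false
set_option linter.unusedSimpArgs false
set_option linter.unusedSectionVars false

/-!
Invariant planes with determinant one and the resulting embeddings into `SL(2, K)` of
fixed-point-free linear groups.
-/

namespace Cfsg.Agent.Lib.Helper12.Zas

variable {K W : Type*} [Field K] [AddCommGroup W] [Module K W]

/-- `g` maps `e1, e2` into their span, with a matrix of determinant one -/
def PD (e1 e2 : W) (g : W →ₗ[K] W) : Prop :=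
  ∃ a b c d : K, g e1 = a • e1 + c • e2 ∧ g e2 = b • e1 + d • e2 ∧ a * d - b * c = 1

theorem PD.one (e1 e2 : W) : PD (K := K) e1 e2 1 :=
  ⟨1, 0, 0, 1, by simp, by simp, by simp⟩

theorem PD.mul {e1 e2 : W} {g h : W →ₗ[K] W} (hg : PD e1 e2 g) (hh : PD e1 e2 h) :
    PD e1 e2 (g * h) := by
  obtain ⟨a, b, c, d, g1, g2, gd⟩ := hg
  obtain ⟨a', b', c', d', h1, h2, hd⟩ := hh
  refine ⟨a * a' + b * c', a * b' + b * d', c * a' + d * c', c * b' + d * d', ?_, ?_, ?_⟩
  · simp only [Module.End.mul_apply, h1, map_add, map_smul, g1, g2]; module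
  · simp only [Module.End.mul_apply, h2, map_add, map_smul, g1, g2]; module
  · linear_combination (a' * d' - b' * c') * gd + hd

theorem PD.symm {e1 e2 : W} {g : W ≃ₗ[K] W} (hg : PD e1 e2 (g : W →ₗ[K] W)) :
    PD e1 e2 (g.symm : W →ₗ[K] W) := by
  obtain ⟨a, b, c, d, g1, g2, gd⟩ := hg
  simp only [LinearEquiv.coe_coe] at g1 g2
  refine ⟨d, -b, -c, a, ?_, ?_, by linear_combination gd⟩
  · simp only [LinearEquiv.coe_coe]
    rw [LinearEquiv.symm_apply_eq]
    simp only [map_add, map_smul, g1, g2]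
    have : e1 = (a * d - b * c) • e1 := by rw [gd, one_smul]
    conv_lhs => rw [this]
    module
  · simp only [LinearEquiv.coe_coe]
    rw [LinearEquiv.symm_apply_eq]
    simp only [map_add, map_smul, g1, g2]
    have : e2 = (a * d - b * c) • e2 := by rw [gd, one_smul]
    conv_lhs => rw [this]
    module

/-- the subgroup of linear automorphisms preserving the plane with determinant one -/
def pdSubgroup (e1 e2 : W) : Subgroup (W ≃ₗ[K] W) where
  carrier := {g | PD e1 e2 (g : W →ₗ[K] W)}
  one_mem' := PD.one e1 e2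
  mul_mem' := fun {g h} hg hh => by
    have : ((g * h : W ≃ₗ[K] W) : W →ₗ[K] W) = (g : W →ₗ[K] W) * (h : W →ₗ[K] W) := rfl
    show PD e1 e2 ((g * h : W ≃ₗ[K] W) : W →ₗ[K] W)
    rw [this]; exact PD.mul hg hh
  inv_mem' := fun {g} hg => PD.symm hg

theorem mem_pdSubgroup {e1 e2 : W} {g : W ≃ₗ[K] W} :
    g ∈ pdSubgroup (K := K) e1 e2 ↔ PD e1 e2 (g : W →ₗ[K] W) := Iff.rfl

theorem pair_unique {e1 e2 : W} (hind : LinearIndependent K ![e1, e2]) {a c a' c' : K}
    (h : a • e1 + c • e2 = a' • e1 + c' • e2) : a = a' ∧ c = c' := by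
  rw [LinearIndependent.pair_iff] at hind
  have := hind (a - a') (c - c') (by
    have : (a - a') • e1 + (c - c') • e2 = (a • e1 + c • e2) - (a' • e1 + c' • e2) := by module
    rw [this, h, sub_self])
  exact ⟨sub_eq_zero.mp this.1, sub_eq_zero.mp this.2⟩

theorem PD.exists_mat {e1 e2 : W} {g : W →ₗ[K] W} (hg : PD e1 e2 g) :
    ∃ M : Matrix (Fin 2) (Fin 2) K, g e1 = M 0 0 • e1 + M 1 0 • e2 ∧
      g e2 = M 0 1 • e1 + M 1 1 • e2 ∧ M.det = 1 := by
  obtain ⟨a, b, c, d, g1, g2, gd⟩ := hg
  exact ⟨!![a, b; c, d], by simpa using g1, by simpa using g2, by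
    rw [Matrix.det_fin_two_of]; exact gd⟩

/-- the matrix of an element of `pdSubgroup` -/
noncomputable def pdMat {e1 e2 : W} (g : pdSubgroup (K := K) e1 e2) :
    Matrix.SpecialLinearGroup (Fin 2) K :=
  ⟨(PD.exists_mat g.2).choose, (PD.exists_mat g.2).choose_spec.2.2⟩

theorem pdMat_spec {e1 e2 : W} (g : pdSubgroup (K := K) e1 e2) :
    (g : W ≃ₗ[K] W) e1 = (pdMat g).1 0 0 • e1 + (pdMat g).1 1 0 • e2 ∧
    (g : W ≃ₗ[K] W) e2 = (pdMat g).1 0 1 • e1 + (pdMat g).1 1 1 • e2 :=
  ⟨(PD.exists_mat g.2).choose_spec.1, (PD.exists_mat g.2).choose_spec.2.1⟩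

theorem pdMat_eq {e1 e2 : W} (hind : LinearIndependent K ![e1, e2])
    (g : pdSubgroup (K := K) e1 e2) (M : Matrix (Fin 2) (Fin 2) K)
    (h1 : (g : W ≃ₗ[K] W) e1 = M 0 0 • e1 + M 1 0 • e2)
    (h2 : (g : W ≃ₗ[K] W) e2 = M 0 1 • e1 + M 1 1 • e2) :
    (pdMat g).1 = M := by
  obtain ⟨s1, s2⟩ := pdMat_spec g
  rw [h1] at s1
  rw [h2] at s2
  obtain ⟨ea, ec⟩ := pair_unique hind s1
  obtain ⟨eb, ed⟩ := pair_unique hind s2
  ext a b
  fin_cases a <;> fin_cases b
  · exact ea.symm
  · exact eb.symm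
  · exact ec.symm
  · exact ed.symm

/-- the matrix map is a homomorphism -/
noncomputable def pdHom {e1 e2 : W} (hind : LinearIndependent K ![e1, e2]) :
    pdSubgroup (K := K) e1 e2 →* Matrix.SpecialLinearGroup (Fin 2) K where
  toFun := pdMat
  map_one' := by
    apply Subtype.ext
    apply pdMat_eq hind 1 1 <;> simp
  map_mul' := fun g h => by
    apply Subtype.ext
    obtain ⟨g1, g2⟩ := pdMat_spec g
    obtain ⟨h1, h2⟩ := pdMat_spec h
    apply pdMat_eq hind (g * h) ((pdMat g).1 * (pdMat h).1)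
    · show (g : W ≃ₗ[K] W) ((h : W ≃ₗ[K] W) e1) = _
      rw [h1, map_add, map_smul, map_smul, g1, g2]
      simp only [Matrix.mul_apply, Fin.sum_univ_two]
      module
    · show (g : W ≃ₗ[K] W) ((h : W ≃ₗ[K] W) e2) = _
      rw [h2, map_add, map_smul, map_smul, g1, g2]
      simp only [Matrix.mul_apply, Fin.sum_univ_two]
      module

/-- **Embedding.** A fixed-point-free group of linear automorphisms, contained in the closure
of a set of automorphisms preserving a plane with determinant one, embeds into `SL(2, K)`. -/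
theorem emb_of_plane (H : Subgroup (W ≃ₗ[K] W))
    (hfpf : ∀ h ∈ H, h ≠ 1 → ∀ v : W, h v = v → v = 0)
    (S : Set (W ≃ₗ[K] W)) (hS : H ≤ Subgroup.closure S) (e1 e2 : W)
    (hind : LinearIndependent K ![e1, e2])
    (hPD : ∀ s ∈ S, PD e1 e2 (s : W →ₗ[K] W)) :
    ∃ f : H →* Matrix.SpecialLinearGroup (Fin 2) K, Function.Injective f := by
  have hle : H ≤ pdSubgroup (K := K) e1 e2 :=
    hS.trans ((Subgroup.closure_le _).mpr fun s hs => hPD s hs)
  refine ⟨(pdHom hind).comp (Subgroup.inclusion hle), ?_⟩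
  rw [injective_iff_map_eq_one]
  intro h hh
  by_contra hne
  have h1 : (h : W ≃ₗ[K] W) ≠ 1 := fun e => hne (Subtype.ext e)
  have hmat : (pdMat (Subgroup.inclusion hle h)).1 = 1 := by
    have : pdMat (Subgroup.inclusion hle h) = 1 := hh
    rw [this]; rfl
  obtain ⟨s1, -⟩ := pdMat_spec (Subgroup.inclusion hle h)
  rw [hmat] at s1
  simp only [Matrix.one_apply_eq, one_smul, ne_eq, one_ne_zero, not_false_eq_true,
    Matrix.one_apply_ne, zero_smul, add_zero] at s1
  have he1 : e1 = 0 := hfpf h h.2 h1 e1 s1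
  have := hind.ne_zero 0
  simp at this
  exact this he1


section AlgClosed

variable [IsAlgClosed K] [FiniteDimensional K W]

/-- an eigenvector inside a non-zero invariant subspace -/
theorem exists_eigvec_in (p : Submodule K W) (hp : p ≠ ⊥) (f : Module.End K W)
    (hf : ∀ x ∈ p, f x ∈ p) : ∃ v ∈ p, v ≠ 0 ∧ ∃ μ : K, f v = μ • v := by
  have : Nontrivial p := Submodule.nontrivial_iff_ne_bot.mpr hp
  obtain ⟨μ, hμ⟩ := Module.End.exists_eigenvalue (f.restrict hf)
  obtain ⟨v, hv⟩ := hμ.exists_hasEigenvector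
  refine ⟨v.1, v.2, ?_, μ, ?_⟩
  · intro h0; exact hv.2 (Subtype.ext h0)
  · have := hv.apply_eq_smul
    have h2 := congrArg Subtype.val this
    simpa using h2

theorem end_two_torsion (h2 : (2 : K) ≠ 0) (x : Module.End K W) (hx : 2 * x = 0) : x = 0 := by
  have : (2 : K) • x = 0 := by rw [two_smul, ← two_mul, hx]
  exact (smul_eq_zero.mp this).resolve_left h2

theorem end_three_torsion (h3 : (3 : K) ≠ 0) (x : Module.End K W) (hx : 3 * x = 0) : x = 0 := by
  have e : (3 : Module.End K W) * x = (3 : K) • x := by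
    have : (3 : Module.End K W) = 1 + 1 + 1 := by norm_num
    rw [this]
    have : (3 : K) = 1 + 1 + 1 := by norm_num
    rw [this]
    simp only [add_mul, one_mul, add_smul, one_smul]
  rw [e] at hx
  exact (smul_eq_zero.mp hx).resolve_left h3

theorem end_four_apply (x : Module.End K W) (v : W) : (4 * x) v = (4 : K) • x v := by
  have : (4 : Module.End K W) = 1 + 1 + 1 + 1 := by norm_num
  rw [this]
  have : (4 : K) = 1 + 1 + 1 + 1 := by norm_num
  rw [this]
  simp only [add_mul, one_mul, add_smul, one_smul, LinearMap.add_apply]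

theorem end_two_apply (x : Module.End K W) (v : W) : (2 * x) v = (2 : K) • x v := by
  rw [two_mul, two_smul, LinearMap.add_apply]

/-- **The invariant plane for two lines through a point.** -/
theorem t1_plane [Nontrivial W] (h2 : (2 : K) ≠ 0) (h3 : (3 : K) ≠ 0)
    {i j i' j' w : Module.End K W}
    (hi : i * i = -1) (hj : j * j = -1) (hij : j * i = -(i * j))
    (hi' : i' * i' = -1) (hj' : j' * j' = -1) (hij' : j' * i' = -(i' * j'))
    (hw : w * w + w + 1 = 0) (hwi : w * i = j * w) (hwj : w * j = i * j * w)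
    (hwi' : w * i' = j' * w) (hwj' : w * j' = i' * j' * w) :
    ∃ e1 e2 : W, LinearIndependent K ![e1, e2] ∧ PD e1 e2 i ∧ PD e1 e2 j ∧ PD e1 e2 i' ∧
      PD e1 e2 j' ∧ PD e1 e2 w := by
  have hq := QT.of_anticomm hi hj hij
  have hq' := QT.of_anticomm hi' hj' hij'
  have t2 := end_two_torsion (W := W) h2
  have t3 := end_three_torsion (W := W) h3
  obtain ⟨c1, c2, c3, m1, m2, m3, c12, c13, c23, hsum, hsq, e4i, e4j, -⟩ :=
    coord hq hq' t2 t3 hw hwi hwj hwi' hwj'
  have r1 := rig hq t2 hw hwi hwj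
  -- common eigenvector of `c1`, `c2`, `i`
  obtain ⟨v1, -, hv1, γ1, hγ1⟩ := exists_eigvec_in (⊤ : Submodule K W) top_ne_bot c1
    (fun _ _ => Submodule.mem_top)
  let E1 : Submodule K W := LinearMap.ker (c1 - γ1 • (1 : Module.End K W))
  have mE1 : ∀ x : W, x ∈ E1 ↔ c1 x = γ1 • x := by
    intro x
    simp only [E1, LinearMap.mem_ker, LinearMap.sub_apply, LinearMap.smul_apply,
      Module.End.one_apply, sub_eq_zero]
  have hE1 : E1 ≠ ⊥ := by
    intro h; apply hv1
    have : v1 ∈ E1 := (mE1 v1).mpr hγ1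
    rw [h] at this; simpa using this
  obtain ⟨v2, hv2m, hv2, γ2, hγ2⟩ := exists_eigvec_in E1 hE1 c2 (by
    intro x hx
    rw [mE1] at hx ⊢
    have : c1 (c2 x) = c2 (c1 x) := by
      rw [← Module.End.mul_apply, c12, Module.End.mul_apply]
    rw [this, hx, map_smul])
  let E2 : Submodule K W := E1 ⊓ LinearMap.ker (c2 - γ2 • (1 : Module.End K W))
  have mE2 : ∀ x : W, x ∈ E2 ↔ c1 x = γ1 • x ∧ c2 x = γ2 • x := by
    intro x
    simp only [E2, Submodule.mem_inf, mE1, LinearMap.mem_ker, LinearMap.sub_apply,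
      LinearMap.smul_apply, Module.End.one_apply, sub_eq_zero]
  have hE2 : E2 ≠ ⊥ := by
    intro h; apply hv2
    have : v2 ∈ E2 := (mE2 v2).mpr ⟨(mE1 v2).mp hv2m, hγ2⟩
    rw [h] at this; simpa using this
  obtain ⟨v, hvm, hv, ι, hι⟩ := exists_eigvec_in E2 hE2 i (by
    intro x hx
    rw [mE2] at hx ⊢
    constructor
    · have : c1 (i x) = i (c1 x) := by
        rw [← Module.End.mul_apply, m1.ci, Module.End.mul_apply]
      rw [this, hx.1, map_smul]
    · have : c2 (i x) = i (c2 x) := by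
        rw [← Module.End.mul_apply, m2.ci, Module.End.mul_apply]
      rw [this, hx.2, map_smul])
  obtain ⟨hc1v, hc2v⟩ := (mE2 v).mp hvm
  -- basic facts
  have hιι : ι * ι = -1 := by
    have : i (i v) = -v := by
      rw [← Module.End.mul_apply, hi]; simp
    rw [hι, map_smul, hι, smul_smul] at this
    have h0 : (ι * ι + 1) • v = 0 := by rw [add_smul, this, one_smul]; simp
    have := (smul_eq_zero.mp h0).resolve_right hv
    linear_combination this
  have hι0 : ι ≠ 0 := by
    intro h; rw [h] at hιι; simp at hιι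
  have hjj : j (j v) = -v := by
    rw [← Module.End.mul_apply, hj]; simp
  have hij1 : i (j v) = -(ι • j v) := by
    have : i (j v) = -(j (i v)) := by
      have := congrArg (fun f : Module.End K W => f v) hij
      simp only [Module.End.mul_apply, LinearMap.neg_apply] at this
      rw [this, neg_neg]
    rw [this, hι, map_smul]
  have h4 : (4 : K) ≠ 0 := by
    have : (4 : K) = 2 * 2 := by norm_num
    rw [this]; exact mul_ne_zero h2 h2
  obtain ⟨γ3, hγ3⟩ : ∃ γ3 : K, γ3 = 4 - γ1 - γ2 := ⟨_, rfl⟩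
  have hc3v : c3 v = γ3 • v := by
    have e : c3 = 4 - c1 - c2 := by rw [← hsum]; abel
    have h4v : (4 : Module.End K W) v = (4 : K) • v := by
      have := end_four_apply (1 : Module.End K W) v
      simpa using this
    rw [e, LinearMap.sub_apply, LinearMap.sub_apply, h4v, hc1v, hc2v, hγ3]
    module
  have hsqv : γ1 * γ1 + γ2 * γ2 + γ3 * γ3 = 16 := by
    have := congrArg (fun f : Module.End K W => f v) hsq
    simp only [LinearMap.add_apply, Module.End.mul_apply, hc1v, hc2v, hc3v, map_smul,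
      smul_smul] at this
    have h16 : (16 : Module.End K W) v = (16 : K) • v := by
      have e16 : (16 : Module.End K W) = 4 * 4 := by norm_num
      rw [e16, end_four_apply]
      have := end_four_apply (1 : Module.End K W) v
      rw [mul_one] at this
      rw [this, smul_smul]; norm_num
    rw [h16] at this
    have h0 : (γ1 * γ1 + γ2 * γ2 + γ3 * γ3 - 16) • v = 0 := by
      rw [sub_smul, add_smul, add_smul, this, sub_self]
    have := (smul_eq_zero.mp h0).resolve_right hv
    linear_combination this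
  -- the commuting coordinates on `j v`
  have hcj : ∀ c : Module.End K W, Cm i j (i * j) c → ∀ γ : K, c v = γ • v →
      c (j v) = γ • j v := by
    intro c hc γ hcv
    rw [← Module.End.mul_apply, hc.cj, Module.End.mul_apply, hcv, map_smul]
  have hind : LinearIndependent K ![v, j v] := by
    rw [LinearIndependent.pair_iff]
    intro s t hst
    have h1 := congrArg (fun x => i x) hst
    simp only [map_add, map_smul, hι, hij1, map_zero] at h1
    have h5 : (ι * s) • v - (ι * t) • j v = 0 := by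
      rw [← h1]; module
    have h6 : (2 * ι * s) • v = 0 := by
      have : (2 * ι * s) • v = ι • (s • v + t • j v) + ((ι * s) • v - (ι * t) • j v) := by
        module
      rw [this, hst, h5]; simp
    have hs : s = 0 := by
      have := (smul_eq_zero.mp h6).resolve_right hv
      have h7 : 2 * ι ≠ 0 := mul_ne_zero h2 hι0
      exact (mul_eq_zero.mp this).resolve_left h7
    rw [hs, zero_smul, zero_add] at hst
    refine ⟨hs, ?_⟩
    by_contra ht
    have hjv : j v = 0 := (smul_eq_zero.mp hst).resolve_left ht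
    rw [hjv, map_zero] at hjj
    exact hv (by simpa using hjj.symm)
  refine ⟨v, j v, hind, ?_, ?_, ?_, ?_, ?_⟩
  · -- i
    exact ⟨ι, 0, 0, -ι, by rw [hι]; simp, by rw [hij1]; simp, by linear_combination -hιι⟩
  · -- j
    exact ⟨0, -1, 1, 0, by simp, by rw [hjj]; simp, by ring⟩
  · -- i'
    have k1 : (i * j) v = -(ι • j v) := by rw [Module.End.mul_apply, hij1]
    have k2 : (i * j) (j v) = -(ι • v) := by
      rw [Module.End.mul_apply, hjj, map_neg, hι]
    have a1 : (4 : K) • i' v = (ι * γ1) • v + (γ2 - ι * γ3) • j v := by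
      rw [← end_four_apply, e4i]
      simp only [LinearMap.add_apply, Module.End.mul_apply, hc1v, hc2v, hc3v, map_smul, hι]
      rw [← Module.End.mul_apply i j, k1]; module
    have a2 : (4 : K) • i' (j v) = (-(γ2 + ι * γ3)) • v + (-(ι * γ1)) • j v := by
      rw [← end_four_apply, e4i]
      simp only [LinearMap.add_apply, Module.End.mul_apply, hcj c1 m1 γ1 hc1v,
        hcj c2 m2 γ2 hc2v, hcj c3 m3 γ3 hc3v, map_smul, hjj, hij1]
      simp only [map_neg, hι]; module
    refine ⟨ι * γ1 / 4, -(γ2 + ι * γ3) / 4, (γ2 - ι * γ3) / 4, -(ι * γ1) / 4, ?_, ?_, ?_⟩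
    · have : i' v = (4 : K)⁻¹ • ((4 : K) • i' v) := by
        rw [smul_smul, inv_mul_cancel₀ h4, one_smul]
      rw [this, a1]; module
    · have : i' (j v) = (4 : K)⁻¹ • ((4 : K) • i' (j v)) := by
        rw [smul_smul, inv_mul_cancel₀ h4, one_smul]
      rw [this, a2]; module
    · field_simp
      linear_combination (-(γ1 * γ1) - γ3 * γ3) * hιι + hsqv
  · -- j'
    have k1 : (i * j) v = -(ι • j v) := by rw [Module.End.mul_apply, hij1]
    have k2 : (i * j) (j v) = -(ι • v) := by
      rw [Module.End.mul_apply, hjj, map_neg, hι]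
    have a1 : (4 : K) • j' v = (ι * γ3) • v + (γ1 - ι * γ2) • j v := by
      rw [← end_four_apply, e4j]
      simp only [LinearMap.add_apply, Module.End.mul_apply, hc1v, hc2v, hc3v, map_smul, hι]
      rw [← Module.End.mul_apply i j, k1]; module
    have a2 : (4 : K) • j' (j v) = (-(γ1 + ι * γ2)) • v + (-(ι * γ3)) • j v := by
      rw [← end_four_apply, e4j]
      simp only [LinearMap.add_apply, Module.End.mul_apply, hcj c1 m1 γ1 hc1v,
        hcj c2 m2 γ2 hc2v, hcj c3 m3 γ3 hc3v, map_smul, hjj, hij1]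
      simp only [map_neg, hι]; module
    refine ⟨ι * γ3 / 4, -(γ1 + ι * γ2) / 4, (γ1 - ι * γ2) / 4, -(ι * γ3) / 4, ?_, ?_, ?_⟩
    · have : j' v = (4 : K)⁻¹ • ((4 : K) • j' v) := by
        rw [smul_smul, inv_mul_cancel₀ h4, one_smul]
      rw [this, a1]; module
    · have : j' (j v) = (4 : K)⁻¹ • ((4 : K) • j' (j v)) := by
        rw [smul_smul, inv_mul_cancel₀ h4, one_smul]
      rw [this, a2]; module
    · field_simp
      linear_combination (-(γ3 * γ3) - γ2 * γ2) * hιι + hsqv
  · -- w
    have k1 : (i * j) v = -(ι • j v) := by rw [Module.End.mul_apply, hij1]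
    have k2 : (i * j) (j v) = -(ι • v) := by
      rw [Module.End.mul_apply, hjj, map_neg, hι]
    have a1 : (2 : K) • w v = (-(1 + ι)) • v + (-(1 - ι)) • j v := by
      rw [← end_two_apply, r1]
      simp only [LinearMap.neg_apply, LinearMap.add_apply, Module.End.one_apply, hι, k1]
      module
    have a2 : (2 : K) • w (j v) = (1 + ι) • v + (-(1 - ι)) • j v := by
      rw [← end_two_apply, r1]
      simp only [LinearMap.neg_apply, LinearMap.add_apply, Module.End.one_apply, hij1, hjj, k2]
      module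
    refine ⟨-(1 + ι) / 2, (1 + ι) / 2, -(1 - ι) / 2, -(1 - ι) / 2, ?_, ?_, ?_⟩
    · have : w v = (2 : K)⁻¹ • ((2 : K) • w v) := by
        rw [smul_smul, inv_mul_cancel₀ h2, one_smul]
      rw [this, a1]; module
    · have : w (j v) = (2 : K)⁻¹ • ((2 : K) • w (j v)) := by
        rw [smul_smul, inv_mul_cancel₀ h2, one_smul]
      rw [this, a2]; module
    · field_simp
      linear_combination (-2 : K) * hιι

end AlgClosed

end Cfsg.Agent.Lib.Helper12.Zas
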