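import Mathlib
import Cfsg.Agent.Lib.Helper12.Zas.Plane

set_option autoImplicit false
set_option linter.unusedSimpArgs false
set_option linter.unusedSectionVars false

/-!
Embeddings into `SL(2, K)` (`K` algebraically closed) for fixed-point-free linear groups:
subgroups generated by two elements of order three, and subgroups generated by two
quaternion triples permuted by a common element of order three.
-/

namespace Cfsg.Agent.Lib.Helper12.Zas

variable {K W : Type*} [Field K] [AddCommGroup W] [Module K W]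
variable [IsAlgClosed K] [FiniteDimensional K W]

/-- **The invariant plane (or a common eigenvector) for two roots of `t^2 + t + 1`.** -/
theorem pair_plane [Nontrivial W] (h2 : (2 : K) ≠ 0)
    {x y : Module.End K W} (hx : x * x + x + 1 = 0) (hy : y * y + y + 1 = 0) :
    (∃ v : W, v ≠ 0 ∧ ∃ α β : K, x v = α • v ∧ y v = β • v) ∨
    ∃ e1 e2 : W, LinearIndependent K ![e1, e2] ∧ PD e1 e2 x ∧ PD e1 e2 y := by
  obtain ⟨x0, hx0⟩ : ∃ x0 : Module.End K W, x0 = x + x + 1 := ⟨_, rfl⟩
  obtain ⟨y0, hy0⟩ : ∃ y0 : Module.End K W, y0 = y + y + 1 := ⟨_, rfl⟩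
  have sqx : x0 * x0 = -(1 + 1 + 1) := by
    have : x0 * x0 + (1 + 1 + 1) = (x * x + x + 1) + (x * x + x + 1) + (x * x + x + 1)
        + (x * x + x + 1) := by
      rw [hx0]; simp only [mul_add, add_mul, mul_one, one_mul]; abel
    rw [hx] at this
    exact eq_neg_of_add_eq_zero_left (by rw [this]; simp)
  have sqy : y0 * y0 = -(1 + 1 + 1) := by
    have : y0 * y0 + (1 + 1 + 1) = (y * y + y + 1) + (y * y + y + 1) + (y * y + y + 1)
        + (y * y + y + 1) := by
      rw [hy0]; simp only [mul_add, add_mul, mul_one, one_mul]; abel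
    rw [hy] at this
    exact eq_neg_of_add_eq_zero_left (by rw [this]; simp)
  obtain ⟨u, hu⟩ : ∃ u : Module.End K W, u = x0 * y0 + y0 * x0 := ⟨_, rfl⟩
  have hux : x0 * u = u * x0 := by
    rw [hu, mul_add, add_mul, ← mul_assoc, sqx, mul_assoc y0 x0 x0, sqx, mul_assoc]
    simp only [neg_mul, mul_neg, add_mul, mul_add, one_mul, mul_one]
    abel
  -- common eigenvector of `u` and `x0`
  obtain ⟨v1, -, hv1, μ, hμ⟩ := exists_eigvec_in (⊤ : Submodule K W) top_ne_bot u
    (fun _ _ => Submodule.mem_top)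
  let E1 : Submodule K W := LinearMap.ker (u - μ • (1 : Module.End K W))
  have mE1 : ∀ t : W, t ∈ E1 ↔ u t = μ • t := by
    intro t
    simp only [E1, LinearMap.mem_ker, LinearMap.sub_apply, LinearMap.smul_apply,
      Module.End.one_apply, sub_eq_zero]
  have hE1 : E1 ≠ ⊥ := by
    intro h; apply hv1
    have : v1 ∈ E1 := (mE1 v1).mpr hμ
    rw [h] at this; simpa using this
  obtain ⟨v, hvm, hv, lam, hlam⟩ := exists_eigvec_in E1 hE1 x0 (by
    intro t ht
    rw [mE1] at ht ⊢
    have : u (x0 t) = x0 (u t) := by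
      rw [← Module.End.mul_apply, ← hux, Module.End.mul_apply]
    rw [this, ht, map_smul])
  have huv : u v = μ • v := (mE1 v).mp hvm
  have h3v : ∀ t : W, (-(1 + 1 + 1) : Module.End K W) t = (-3 : K) • t := by
    intro t
    simp only [LinearMap.neg_apply, LinearMap.add_apply, Module.End.one_apply]
    module
  have hll : lam * lam = -3 := by
    have : x0 (x0 v) = (-3 : K) • v := by
      rw [← Module.End.mul_apply, sqx, h3v]
    rw [hlam, map_smul, hlam, smul_smul] at this
    have h0 : (lam * lam + 3) • v = 0 := by rw [add_smul, this]; module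
    have := (smul_eq_zero.mp h0).resolve_right hv
    linear_combination this
  have hyy : y0 (y0 v) = (-3 : K) • v := by
    rw [← Module.End.mul_apply, sqy, h3v]
  have hxy : x0 (y0 v) = μ • v - lam • y0 v := by
    have : x0 (y0 v) = u v - y0 (x0 v) := by
      rw [hu]; simp only [LinearMap.add_apply, Module.End.mul_apply]; abel
    rw [this, huv, hlam, map_smul]
  -- from `x0`, `y0` back to `x`, `y`
  have bx : ∀ t : W, x t = (2 : K)⁻¹ • (x0 t - t) := by
    intro t
    rw [hx0]
    simp only [LinearMap.add_apply, Module.End.one_apply]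
    have : x t + x t + t - t = (2 : K) • x t := by module
    rw [this, smul_smul, inv_mul_cancel₀ h2, one_smul]
  have by' : ∀ t : W, y t = (2 : K)⁻¹ • (y0 t - t) := by
    intro t
    rw [hy0]
    simp only [LinearMap.add_apply, Module.End.one_apply]
    have : y t + y t + t - t = (2 : K) • y t := by module
    rw [this, smul_smul, inv_mul_cancel₀ h2, one_smul]
  by_cases hind : LinearIndependent K ![v, y0 v]
  · right
    refine ⟨v, y0 v, hind, ?_, ?_⟩
    · refine ⟨(lam - 1) / 2, μ / 2, 0, (-lam - 1) / 2, ?_, ?_, ?_⟩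
      · rw [bx, hlam]; module
      · rw [bx, hxy]; module
      · field_simp
        linear_combination -hll
    · refine ⟨-1 / 2, -3 / 2, 1 / 2, -1 / 2, ?_, ?_, ?_⟩
      · rw [by']; module
      · rw [by', hyy]; module
      · field_simp; norm_num
  · left
    rw [LinearIndependent.pair_iff] at hind
    push Not at hind
    obtain ⟨s, t, hst, hne⟩ := hind
    have ht : t ≠ 0 := by
      intro ht0
      rw [ht0, zero_smul, add_zero] at hst
      have hs : s = 0 := (smul_eq_zero.mp hst).resolve_right hv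
      exact hne hs ht0
    have hy0v : y0 v = (-s / t) • v := by
      have : y0 v = t⁻¹ • (t • y0 v) := by rw [smul_smul, inv_mul_cancel₀ ht, one_smul]
      have h' : t • y0 v = -(s • v) := eq_neg_of_add_eq_zero_right hst
      rw [this, h']; module
    refine ⟨v, hv, (lam - 1) / 2, (-s / t - 1) / 2, ?_, ?_⟩
    · rw [bx, hlam]; module
    · rw [by', hy0v]; module

/-- the monoid homomorphism from linear automorphisms to endomorphisms -/
noncomputable def toEnd : (W ≃ₗ[K] W) →* Module.End K W :=
  LinearEquiv.automorphismGroup.toLinearMapMonoidHom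

theorem toEnd_apply (g : W ≃ₗ[K] W) (v : W) : toEnd g v = g v := rfl

/-- a non-trivial element of order three of a fixed-point-free group satisfies
`x^2 + x + 1 = 0` -/
theorem cyclotomic_of_fpf (H : Subgroup (W ≃ₗ[K] W))
    (hfpf : ∀ h ∈ H, h ≠ 1 → ∀ v : W, h v = v → v = 0)
    {x : W ≃ₗ[K] W} (hxH : x ∈ H) (hx3 : x ^ 3 = 1) (hx1 : x ≠ 1) :
    toEnd x * toEnd x + toEnd x + 1 = 0 := by
  ext v
  simp only [LinearMap.add_apply, Module.End.mul_apply, Module.End.one_apply, toEnd_apply,
    LinearMap.zero_apply]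
  apply hfpf x hxH hx1
  have h3 : x (x (x v)) = v := by
    have := congrArg (fun g : W ≃ₗ[K] W => g v) hx3
    simpa [pow_succ, LinearEquiv.mul_apply] using this
  rw [map_add, map_add, h3]; abel

/-- the involution of a fixed-point-free group is `-1` -/
theorem neg_one_of_fpf (H : Subgroup (W ≃ₗ[K] W))
    (hfpf : ∀ h ∈ H, h ≠ 1 → ∀ v : W, h v = v → v = 0)
    {z : W ≃ₗ[K] W} (hzH : z ∈ H) (hz2 : z * z = 1) (hz1 : z ≠ 1) :
    toEnd z = -1 := by
  ext v
  simp only [toEnd_apply, LinearMap.neg_apply, Module.End.one_apply]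
  have h2 : z (z v) = v := by
    have := congrArg (fun g : W ≃ₗ[K] W => g v) hz2
    simpa [LinearEquiv.mul_apply] using this
  have : z v + v = 0 := by
    apply hfpf z hzH hz1
    rw [map_add, h2]; abel
  exact eq_neg_of_add_eq_zero_left this

/-- **Pairs of elements of order three.** In a fixed-point-free group of linear automorphisms
over an algebraically closed field, two elements of order three commute or generate a
subgroup that embeds into `SL(2, K)`. -/
theorem pair_emb [Nontrivial W] (h2 : (2 : K) ≠ 0) (H : Subgroup (W ≃ₗ[K] W))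
    (hfpf : ∀ h ∈ H, h ≠ 1 → ∀ v : W, h v = v → v = 0)
    {x y : W ≃ₗ[K] W} (hxH : x ∈ H) (hyH : y ∈ H) (hx3 : x ^ 3 = 1) (hx1 : x ≠ 1)
    (hy3 : y ^ 3 = 1) (hy1 : y ≠ 1) :
    x * y = y * x ∨
    ∃ f : Subgroup.closure ({x, y} : Set (W ≃ₗ[K] W)) →* Matrix.SpecialLinearGroup (Fin 2) K,
      Function.Injective f := by
  have hle : Subgroup.closure ({x, y} : Set (W ≃ₗ[K] W)) ≤ H := by
    rw [Subgroup.closure_le]
    intro g hg
    rcases hg with rfl | rfl
    · exact hxH
    · exact hyH
  rcases pair_plane h2 (cyclotomic_of_fpf H hfpf hxH hx3 hx1)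
    (cyclotomic_of_fpf H hfpf hyH hy3 hy1) with ⟨v, hv, α, β, hxv, hyv⟩ | ⟨e1, e2, hind, px, py⟩
  · left
    rw [toEnd_apply] at hxv hyv
    by_contra hne
    have hc1 : (x * y) * (y * x)⁻¹ ≠ 1 := by
      intro h; exact hne (mul_inv_eq_one.mp h)
    have hcH : (x * y) * (y * x)⁻¹ ∈ H :=
      H.mul_mem (H.mul_mem hxH hyH) (H.inv_mem (H.mul_mem hyH hxH))
    apply hv
    apply hfpf _ hcH hc1
    have e1 : (y * x) v = (β * α) • v := by
      rw [LinearEquiv.mul_apply, hxv, map_smul, hyv, smul_smul, mul_comm]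
    have e2 : (x * y) v = (β * α) • v := by
      rw [LinearEquiv.mul_apply, hyv, map_smul, hxv, smul_smul]
    rw [LinearEquiv.mul_apply]
    have : (y * x)⁻¹ v = (x * y)⁻¹ v := by
      have h1 : (y * x)⁻¹ ((β * α) • v) = v := by
        rw [← e1]; simp [← LinearEquiv.mul_apply]
      have h2' : (x * y)⁻¹ ((β * α) • v) = v := by
        rw [← e2]; simp [← LinearEquiv.mul_apply]
      have hba : β * α ≠ 0 := by
        intro h0
        rw [h0, zero_smul] at e1
        have : v = (y * x)⁻¹ ((y * x) v) := by simp [← LinearEquiv.mul_apply]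
        rw [e1, map_zero] at this
        exact hv this
      rw [map_smul] at h1 h2'
      have := h1.trans h2'.symm
      exact smul_right_injective W hba this
    rw [this]; simp [← LinearEquiv.mul_apply]
  · right
    exact emb_of_plane _ (fun h hh => hfpf h (hle hh)) {x, y} le_rfl e1 e2 hind (by
      intro s hs
      rcases hs with rfl | rfl
      · exact px
      · exact py)

/-- **Two lines through a point.**  In a fixed-point-free group of linear automorphisms over
an algebraically closed field, two quaternion triples permuted cyclically by the same element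
of order three generate (together with it) a subgroup that embeds into `SL(2, K)`. -/
theorem t1_emb [Nontrivial W] (h2 : (2 : K) ≠ 0) (h3 : (3 : K) ≠ 0) (H : Subgroup (W ≃ₗ[K] W))
    (hfpf : ∀ h ∈ H, h ≠ 1 → ∀ v : W, h v = v → v = 0)
    {z i j i' j' w : W ≃ₗ[K] W} (hzH : z ∈ H) (hz1 : z ≠ 1) (hz2 : z * z = 1)
    (hiH : i ∈ H) (hjH : j ∈ H) (hi'H : i' ∈ H) (hj'H : j' ∈ H) (hwH : w ∈ H)
    (hi : i * i = z) (hj : j * j = z) (hij : j * i = z * (i * j))
    (hi' : i' * i' = z) (hj' : j' * j' = z) (hij' : j' * i' = z * (i' * j'))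
    (hw3 : w ^ 3 = 1) (hw1 : w ≠ 1) (hwi : w * i = j * w) (hwj : w * j = i * j * w)
    (hwi' : w * i' = j' * w) (hwj' : w * j' = i' * j' * w) :
    ∃ f : Subgroup.closure ({i, j, i', j', w} : Set (W ≃ₗ[K] W)) →*
        Matrix.SpecialLinearGroup (Fin 2) K, Function.Injective f := by
  have hle : Subgroup.closure ({i, j, i', j', w} : Set (W ≃ₗ[K] W)) ≤ H := by
    rw [Subgroup.closure_le]
    intro g hg
    rcases hg with rfl | rfl | rfl | rfl | rfl
    · exact hiH
    · exact hjH
    · exact hi'H
    · exact hj'H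
    · exact hwH
  have hz := neg_one_of_fpf H hfpf hzH hz2 hz1
  have e := fun a b : W ≃ₗ[K] W => map_mul (toEnd (K := K) (W := W)) a b
  have Ei : toEnd i * toEnd i = -1 := by rw [← e, hi, hz]
  have Ej : toEnd j * toEnd j = -1 := by rw [← e, hj, hz]
  have Eij : toEnd j * toEnd i = -(toEnd i * toEnd j) := by
    rw [← e, hij, e, e, hz]; simp
  have Ei' : toEnd i' * toEnd i' = -1 := by rw [← e, hi', hz]
  have Ej' : toEnd j' * toEnd j' = -1 := by rw [← e, hj', hz]
  have Eij' : toEnd j' * toEnd i' = -(toEnd i' * toEnd j') := by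
    rw [← e, hij', e, e, hz]; simp
  have Ew := cyclotomic_of_fpf H hfpf hwH hw3 hw1
  have Ewi : toEnd w * toEnd i = toEnd j * toEnd w := by rw [← e, hwi, e]
  have Ewj : toEnd w * toEnd j = toEnd i * toEnd j * toEnd w := by rw [← e, hwj, e, e]
  have Ewi' : toEnd w * toEnd i' = toEnd j' * toEnd w := by rw [← e, hwi', e]
  have Ewj' : toEnd w * toEnd j' = toEnd i' * toEnd j' * toEnd w := by rw [← e, hwj', e, e]
  obtain ⟨e1, e2, hind, pi, pj, pi', pj', pw⟩ :=
    t1_plane h2 h3 Ei Ej Eij Ei' Ej' Eij' Ew Ewi Ewj Ewi' Ewj'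
  exact emb_of_plane _ (fun h hh => hfpf h (hle hh)) _ le_rfl e1 e2 hind (by
    intro s hs
    rcases hs with rfl | rfl | rfl | rfl | rfl
    · exact pi
    · exact pj
    · exact pi'
    · exact pj'
    · exact pw)

end Cfsg.Agent.Lib.Helper12.Zas
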